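import Groth.Agent.KFlatLib.Scheme.ProjClosed
import Groth.Agent.KFlatLib.Scheme.LpullComp
import Groth.Agent.KFlatLib.Scheme.AcyclicPush
import Groth.Agent.KFlatLib.Scheme.Adjoint
import Groth.Agent.PerfGen7.TensorModCx
import Groth.Agent.S0922
import Groth.Prelude.Def_DualFM

/-!
# The kernel of the identity
-/

set_option autoImplicit false
set_option linter.style.haveILetI false
set_option backward.isDefEq.respectTransparency false
set_option backward.isDefEq.respectTransparency.types false

universe u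

open CategoryTheory CategoryTheory.Limits AlgebraicGeometry

attribute [local instance] HasDerivedCategory.standard

noncomputable section

namespace Groth.Agent.Diag7

open Groth.Agent.KFlatLib

variable {X Y : Scheme.{u}}

/-- Tensoring on the right with a module, termwise, is the tensor product with the module in degree zero. -/
def tensorSingleNatIso (G : X.Modules) :
    (DCoh.tensorBi.flip.obj G).mapHomologicalComplex (ComplexShape.up ℤ) ≅
      DCoh.tensorCx.flip.obj (PerfGen7.degZero G) :=
  NatIso.ofComponents (fun R => PerfGen7.tensorCxSingleIso G R) fun {R R'} φ => by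
    ext i : 1
    show (DCoh.tensorBi.map (φ.f i)).app G ≫ singleSummand (T := DCoh.tensorBi) R' G 0 i i (add_zero i) =
      singleSummand (T := DCoh.tensorBi) R G 0 i i (add_zero i) ≫
        (HomologicalComplex.mapBifunctorMap φ (𝟙 (PerfGen7.degZero G)) DCoh.tensorBi (ComplexShape.up ℤ)).f i
    simp only [singleSummand, Category.assoc, HomologicalComplex.ι_mapBifunctorMap,
      HomologicalComplex.id_f, CategoryTheory.Functor.map_id, Category.id_comp, NatTrans.naturality_assoc]

variable (f : X ⟶ Y)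

/-- Tensoring with the image of the structure sheaf under a closed immersion. -/
def tensorPushIso [IsClosedImmersion f] :
    DCoh.tensorBi.flip.obj ((Scheme.Modules.pushforward f).obj (Coh.structureModule X)) ≅
      Scheme.Modules.pullback f ⋙ Scheme.Modules.pushforward f :=
  let M := Coh.structureModule X
  haveI := fun N => isIso_projMod_of_isClosedImmersion f M N
  (tensorBiFlipIso Y).app _ ≪≫
    (NatIso.ofComponents (fun N => asIso (projMod f M N)) (fun g => projMod_naturality_right f M g) :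
      DCoh.tensorBi.obj ((Scheme.Modules.pushforward f).obj M) ≅
        Scheme.Modules.pullback f ⋙ DCoh.tensorBi.obj M ⋙ Scheme.Modules.pushforward f) ≪≫
    Functor.isoWhiskerLeft (Scheme.Modules.pullback f)
      (Functor.isoWhiskerRight (((tensorBiFlipIso X).app M).symm ≪≫ tensorStructureIso X)
        (Scheme.Modules.pushforward f) ≪≫ Functor.leftUnitor _)

/-- The unit computing `Rf_*` is invertible for a closed immersion. -/
lemma isIso_rpushUnit_closed [IsClosedImmersion f] [DCoh.HasRpush f] (C : CochainComplex X.Modules ℤ) :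
    IsIso ((rpushUnit f).app C) := by
  haveI : PreservesFiniteColimits (Scheme.Modules.pushforward f) :=
    ⟨fun J _ _ => preservesColimitsOfShape_push f J⟩
  obtain ⟨J, s, hJ, hs⟩ := exists_kInjective_res C
  haveI := hJ
  haveI := hs
  let P := (Scheme.Modules.pushforward f).mapHomologicalComplex (ComplexShape.up ℤ)
  have h1 : IsIso (DerivedCategory.Q.map (P.map s)) := isIso_Q_map _ inferInstance
  have h2 : IsIso (DerivedCategory.Q.map s) := isIso_Q_map s hs
  have w := (rpushUnit f).naturality s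
  simp only [Functor.comp_map] at w
  have h4 : IsIso ((rpushUnit f).app C ≫ (DCoh.Rpush f).map (DerivedCategory.Q.map s)) := by
    rw [← w]
    exact IsIso.comp_isIso' h1 (isIso_rpushUnit_of_kInjective f J)
  exact IsIso.of_isIso_comp_right _ ((DCoh.Rpush f).map (DerivedCategory.Q.map s))

/-- The derived tensor product with the image of the structure sheaf under a closed immersion. -/
theorem nonempty_ltensor_push_structure [IsClosedImmersion f] [DCoh.HasRpush f] [DCoh.HasLpull f]
    [DCoh.HasLTensorCx (PerfGen7.degZero ((Scheme.Modules.pushforward f).obj (Coh.structureModule X)))] :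
    Nonempty (DCoh.LTensorCx (PerfGen7.degZero ((Scheme.Modules.pushforward f).obj (Coh.structureModule X))) ≅
      DCoh.Lpull f ⋙ DCoh.Rpush f) := by
  let G := (Scheme.Modules.pushforward f).obj (Coh.structureModule X)
  let E := PerfGen7.degZero G
  let T := DCoh.LTensorCx E
  let c := (DCoh.tensorCxQ E).totalLeftDerivedCounit DerivedCategory.Q (qisX Y)
  haveI : ∀ K, IsIso ((Functor.whiskerLeft (kRes Y) c).app K) := fun K =>
    isIso_LTensorCx_counit E (isKFlat_kRes K)
  haveI := NatIso.isIso_of_isIso_app (Functor.whiskerLeft (kRes Y) c)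
  haveI : ∀ K, IsIso ((Functor.whiskerLeft (kRes Y ⋙ pullCx f) (rpushUnit f)).app K) :=
    fun K => isIso_rpushUnit_closed f _
  haveI := NatIso.isIso_of_isIso_app (Functor.whiskerLeft (kRes Y ⋙ pullCx f) (rpushUnit f))
  let P := (Scheme.Modules.pushforward f).mapHomologicalComplex (ComplexShape.up ℤ)
  let e₁ : DCoh.tensorCx.flip.obj E ≅ pullCx f ⋙ P :=
    (tensorSingleNatIso G).symm ≪≫ NatIso.mapHomologicalComplex (tensorPushIso f) (ComplexShape.up ℤ) ≪≫
      NatIso.ofComponents (fun K => HomologicalComplex.Hom.isoOfComponents (fun i => Iso.refl _)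
        (fun i k _ => by simp; try rfl)) (fun φ => by ext; simp; try rfl)
  refine ⟨Localization.liftNatIso DerivedCategory.Q (qisX Y)
    (DerivedCategory.Q ⋙ T) (DerivedCategory.Q ⋙ DCoh.Lpull f ⋙ DCoh.Rpush f) _ _ ?_⟩
  exact Functor.isoWhiskerRight (resQIso Y).symm _ ≪≫ Functor.associator _ _ _ ≪≫
    asIso (Functor.whiskerLeft (kRes Y) c) ≪≫
    Functor.isoWhiskerLeft (kRes Y) (Functor.isoWhiskerRight e₁ DerivedCategory.Q ≪≫ Functor.associator _ _ _) ≪≫
    (Functor.associator _ _ _).symm ≪≫
    asIso (Functor.whiskerLeft (kRes Y ⋙ pullCx f) (rpushUnit f)) ≪≫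
    (Functor.associator _ _ _).symm ≪≫
    Functor.isoWhiskerRight (Functor.associator _ _ _ ≪≫ (lpullResIso f).symm) _ ≪≫
    Functor.associator _ _ _

/-- Derived pullback along the identity. -/
theorem nonempty_lpull_id [DCoh.HasLpull (𝟙 X)] : Nonempty (DCoh.Lpull (𝟙 X) ≅ 𝟭 (DCoh.D X)) := by
  let e : pullCx (𝟙 X) ≅ 𝟭 _ :=
    NatIso.mapHomologicalComplex (Scheme.Modules.pullbackId X) (ComplexShape.up ℤ) ≪≫
      Functor.mapHomologicalComplexIdIso _ _
  refine ⟨Localization.liftNatIso DerivedCategory.Q (qisX X)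
    (DerivedCategory.Q ⋙ DCoh.Lpull (𝟙 X)) DerivedCategory.Q _ _ ?_⟩
  exact lpullResIso (𝟙 X) ≪≫ Functor.isoWhiskerLeft (kRes X) (Functor.isoWhiskerRight e _ ≪≫ Functor.leftUnitor _) ≪≫
    resQIso X

/-- The diagonal kernel induces the identity. -/
theorem nonempty_phi_iso_id {S : Scheme.{u}} (a : X ⟶ S) [IsSeparated a]
    (K : CochainComplex (Limits.pullback a a).Modules ℤ) (hK : Nonempty (DCoh.toD _ K ≅ FMK.diagO a))
    [DCoh.HasLpull (Limits.pullback.fst a a)] [DCoh.HasLTensorCx K] [DCoh.HasRpush (Limits.pullback.snd a a)] :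
    Nonempty (FMK.phi a a K ≅ 𝟭 (DCoh.D X)) := by
  obtain ⟨eK⟩ := hK
  let Δ := pullback.diagonal a
  haveI : IsClosedImmersion Δ := inferInstance
  haveI := hasRpush_scheme Δ
  haveI := hasLpull Δ
  haveI := hasLpull (Δ ≫ pullback.fst a a)
  haveI := hasRpush_scheme (Δ ≫ pullback.snd a a)
  haveI := hasRpush_scheme (𝟙 X)
  haveI := hasLpull (𝟙 X)
  let G := (Scheme.Modules.pushforward Δ).obj (Coh.structureModule X)
  haveI := hasLTensorCx (PerfGen7.degZero G)
  let eD : DCoh.toD _ (PerfGen7.degZero G) ≅ FMK.diagO a :=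
    ((DerivedCategory.singleFunctorIsoCompQ (Limits.pullback a a).Modules 0).app G).symm
  obtain ⟨c⟩ := nonempty_LTensorCx_congr_D (eK ≪≫ eD.symm)
  obtain ⟨t⟩ := nonempty_ltensor_push_structure Δ
  obtain ⟨p⟩ := nonempty_lpull_comp (f := Δ) (g := pullback.fst a a)
  obtain ⟨q⟩ := Groth.Agent.S0922.result Δ (pullback.snd a a)
  obtain ⟨l⟩ := nonempty_lpull_id (X := X)
  obtain ⟨adj⟩ := nonempty_lpull_rpush_adj (𝟙 X)
  let r : DCoh.Rpush (𝟙 X) ≅ 𝟭 (DCoh.D X) := (adj.ofNatIsoLeft l).rightAdjointUniq Adjunction.id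
  have p' : DCoh.Lpull (Δ ≫ pullback.fst a a) ≅ DCoh.Lpull (𝟙 X) := by
    exact eqToIso (by congr 1; exact pullback.diagonal_fst a)
  have q' : DCoh.Rpush (Δ ≫ pullback.snd a a) ≅ DCoh.Rpush (𝟙 X) := by
    exact eqToIso (by congr 1; exact pullback.diagonal_snd a)
  exact ⟨Functor.isoWhiskerLeft _ (Functor.isoWhiskerRight (c ≪≫ t) _ ≪≫ Functor.associator _ _ _) ≪≫
    (Functor.associator _ _ _).symm ≪≫
    NatIso.hcomp (p ≪≫ p' ≪≫ l) (q ≪≫ q' ≪≫ r) ≪≫ Functor.leftUnitor _⟩

end Groth.Agent.Diag7
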